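import Cfsg.Agent.Lib.Theta24.Poisson

set_option autoImplicit false
set_option linter.unusedSectionVars false
set_option linter.unusedVariables false
set_option backward.isDefEq.respectTransparency.types false

open Matrix Real Filter Topology UpperHalfPlane ModularForm EisensteinSeries MatrixGroups
open scoped Matrix ArithmeticFunction.sigma

/-!
The theta series of an even unimodular form of rank 24 as a modular form of weight 12, and the
vector counts that follow from the absence of roots.
-/

namespace Cfsg.Agent.Lib.Theta24.Counts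

open Cfsg.Agent.Lib.Theta24.Poisson

noncomputable section

/-- Rank 24. -/
abbrev V := Fin 24 → ℤ

/-- The hypotheses. -/
structure Even24 (B : Matrix (Fin 24) (Fin 24) ℤ) : Prop where
  good : Good B
  even : ∀ n : V, (2 : ℤ) ∣ qZ B n

variable {B : Matrix (Fin 24) (Fin 24) ℤ}

/-- A term of the theta series. -/
def term (B : Matrix (Fin 24) (Fin 24) ℤ) (n : V) (z : ℂ) : ℂ :=
  Complex.exp (π * Complex.I * (qZ B n : ℂ) * z)

/-- The theta series. -/
def theta (B : Matrix (Fin 24) (Fin 24) ℤ) (z : ℂ) : ℂ := ∑' n : V, term B n z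

lemma norm_term (B : Matrix (Fin 24) (Fin 24) ℤ) (n : V) (z : ℂ) :
    ‖term B n z‖ = rexp (-(π * z.im * (qZ B n : ℝ))) := by
  rw [term, Complex.norm_exp]
  congr 1
  simp [Complex.mul_re, Complex.mul_im]
  ring

lemma summable_term (hB : Even24 B) {z : ℂ} (hz : 0 < z.im) :
    Summable (fun n : V => term B n z) :=
  Summable.of_norm ((summable_exp_q hB.good (mul_pos pi_pos hz)).congr
    (fun n => (norm_term B n z).symm))

lemma differentiableOn_theta (hB : Even24 B) :
    DifferentiableOn ℂ (theta B) upperHalfPlaneSet := by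
  intro z hz
  set δ := z.im / 2 with hδ
  have hz' : 0 < z.im := hz
  have hδ0 : 0 < δ := by positivity
  have ho : IsOpen {w : ℂ | δ < w.im} := isOpen_lt continuous_const Complex.continuous_im
  have h : DifferentiableOn ℂ (theta B) {w : ℂ | δ < w.im} := by
    refine Complex.differentiableOn_tsum_of_summable_norm
      (summable_exp_q hB.good (mul_pos pi_pos hδ0)) (fun n => ?_) ho (fun n w hw => ?_)
    · unfold term; fun_prop
    · rw [norm_term, exp_le_exp, neg_le_neg_iff]
      have := hB.good.nonneg n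
      have hw' : δ ≤ w.im := (le_of_lt hw)
      gcongr
  exact (h.differentiableAt (ho.mem_nhds (show δ < z.im by linarith))).differentiableWithinAt

lemma theta_imag (hB : Even24 B) (t : ℝ) :
    theta B (Complex.I * t) = ((∑' n : V, rexp (-(π * t * (qZ B n : ℝ))) : ℝ) : ℂ) := by
  rw [theta, Complex.ofReal_tsum]
  refine tsum_congr (fun n => ?_)
  rw [term, Complex.ofReal_exp]
  congr 1
  push_cast
  linear_combination (π : ℂ) * (qZ B n : ℂ) * (t : ℂ) * Complex.I_sq

lemma theta_add_one (hB : Even24 B) (z : ℂ) : theta B (z + 1) = theta B z := by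
  refine tsum_congr (fun n => ?_)
  obtain ⟨j, hj⟩ := hB.even n
  rw [term, term, mul_add, Complex.exp_add, mul_one, hj]
  have : Complex.exp (π * Complex.I * ((2 * j : ℤ) : ℂ)) = 1 := by
    rw [show (π : ℂ) * Complex.I * ((2 * j : ℤ) : ℂ) = (j : ℂ) * (2 * π * Complex.I) by
      push_cast; ring]
    exact Complex.exp_int_mul_two_pi_mul_I j
  rw [this, mul_one]

lemma theta_inv_eqOn (hB : Even24 B) :
    Set.EqOn (fun z => theta B (-1 / z)) (fun z => z ^ 12 * theta B z) upperHalfPlaneSet := by
  have hm : ∀ z ∈ upperHalfPlaneSet, -1 / z ∈ upperHalfPlaneSet := fun z hz => by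
    have hz0 : 0 < z.im := hz
    have hn : 0 < Complex.normSq z :=
      Complex.normSq_pos.mpr (fun h => by simp [h] at hz0)
    show 0 < (-1 / z).im
    simp only [neg_div, one_div, Complex.neg_im, Complex.inv_im, neg_neg]
    positivity
  have hd : DifferentiableOn ℂ (fun z => theta B (-1 / z)) upperHalfPlaneSet := by
    refine (differentiableOn_theta hB).comp ?_ hm
    refine DifferentiableOn.div (differentiableOn_const _) differentiableOn_id (fun z hz => ?_)
    intro h
    have hz0 : 0 < z.im := hz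
    simp [h] at hz0
  have hd2 : DifferentiableOn ℂ (fun z => z ^ 12 * theta B z) upperHalfPlaneSet :=
    (differentiableOn_id.pow 12).mul (differentiableOn_theta hB)
  refine (hd.analyticOnNhd isOpen_upperHalfPlaneSet).eqOn_of_preconnected_of_frequently_eq
    (hd2.analyticOnNhd isOpen_upperHalfPlaneSet) (Convex.isPreconnected (convex_halfSpace_im_gt 0))
    (z₀ := Complex.I) (by simp) ?_
  have key : ∀ t : ℝ, 0 < t → theta B (-1 / (Complex.I * t))
      = (Complex.I * t) ^ 12 * theta B (Complex.I * t) := by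
    intro t ht
    have e : -1 / (Complex.I * (t : ℂ)) = Complex.I * ((1 / t : ℝ) : ℂ) := by
      push_cast
      have : (t : ℂ) ≠ 0 := by exact_mod_cast ht.ne'
      field_simp
      exact Complex.I_sq.symm
    rw [e, theta_imag hB, theta_imag hB, poisson hB.good (d := 12) (by simp) ht, mul_pow,
      show Complex.I ^ 12 = 1 by rw [show 12 = 4 * 3 from rfl, pow_mul, Complex.I_pow_four,
        one_pow]]
    push_cast
    rw [one_mul, ← mul_assoc, mul_inv_cancel₀ (pow_ne_zero _ (by exact_mod_cast ht.ne')), one_mul]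
    congr! 4 with n
    ring
  have ht : Tendsto (fun N : ℕ => Complex.I * ((1 + 1 / ((N : ℝ) + 1) : ℝ) : ℂ)) atTop
      (𝓝[≠] Complex.I) := by
    refine tendsto_nhdsWithin_iff.mpr ⟨?_, Eventually.of_forall (fun N => ?_)⟩
    · have h1 : Tendsto (fun N : ℕ => (1 + 1 / ((N : ℝ) + 1))) atTop (𝓝 (1 : ℝ)) := by
        simpa using (tendsto_const_nhds (x := (1 : ℝ)) (f := atTop)).add
          tendsto_one_div_add_atTop_nhds_zero_nat
      have h2 := ((Complex.continuous_ofReal.tendsto (1 : ℝ)).comp h1).const_mul Complex.I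
      simpa [Function.comp_def] using h2
    · intro h
      have hpos : (0 : ℝ) < 1 / ((N : ℝ) + 1) := by positivity
      have := congrArg Complex.im h
      rw [Complex.mul_im, Complex.I_re, Complex.I_im, Complex.ofReal_re] at this
      linarith
  exact ht.frequently (Eventually.of_forall (fun N => key _ (by positivity))).frequently

lemma slash_T (hB : Even24 B) :
    (fun z : ℍ => theta B z) ∣[(12 : ℤ)] ModularGroup.T = fun z : ℍ => theta B z := by
  ext z
  rw [SL_slash_apply, UpperHalfPlane.denom, UpperHalfPlane.modular_T_smul]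
  simp [ModularGroup.T, add_comm (1 : ℂ) (z : ℂ), theta_add_one hB]

lemma slash_S (hB : Even24 B) :
    (fun z : ℍ => theta B z) ∣[(12 : ℤ)] ModularGroup.S = fun z : ℍ => theta B z := by
  ext z
  suffices theta B (-(z : ℂ))⁻¹ * ((z : ℂ) ^ 12)⁻¹ = theta B z by
    rw [SL_slash_apply, UpperHalfPlane.modular_S_smul]
    simpa [UpperHalfPlane.denom, ModularGroup.S] using this
  have h : theta B (-(z : ℂ))⁻¹ = (z : ℂ) ^ 12 * theta B z := by
    have := theta_inv_eqOn hB z.2
    simp only at this
    rw [← this]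
    congr 1
    field_simp
  rw [h]
  field_simp [z.ne_zero]

/-- The number of vectors of norm `2 k`. -/
def cnt (B : Matrix (Fin 24) (Fin 24) ℤ) (k : ℕ) : ℕ := {n : V | qZ B n = 2 * (k : ℤ)}.ncard

lemma finite_shell (hB : Even24 B) (k : ℕ) : {n : V | qZ B n = 2 * (k : ℤ)}.Finite := by
  have h := (summable_exp_q hB.good one_pos).tendsto_cofinite_zero.eventually
    (gt_mem_nhds (exp_pos (-(2 * (k : ℝ)))))
  rw [Filter.eventually_cofinite] at h
  refine h.subset (fun n (hn : qZ B n = 2 * (k : ℤ)) => ?_)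
  simp [hn]

lemma hasSum_q (hB : Even24 B) (z : ℍ) :
    HasSum (fun k : ℕ => (cnt B k : ℂ) • (Function.Periodic.qParam (1 : ℝ) (z : ℂ)) ^ k)
      (theta B z) := by
  set j : V → ℕ := fun n => (qZ B n / 2).toNat with hj
  have hs := (summable_term hB z.2).hasSum
  rw [← (Equiv.sigmaFiberEquiv j).hasSum_iff] at hs
  refine hs.sigma (fun k => ?_)
  have hq : ∀ n : V, qZ B n = 2 * (j n : ℤ) := fun n => by
    have h0 := hB.good.nonneg n
    have h1 := hB.even n
    simp only [hj]
    omega
  have hset : {n : V | j n = k} = {n : V | qZ B n = 2 * (k : ℤ)} := by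
    ext n
    simp only [Set.mem_ofPred_eq]
    constructor
    · rintro rfl; exact hq n
    · intro h
      have := hq n
      omega
  haveI : Finite {n : V // j n = k} := by
    have := (finite_shell hB k).to_subtype
    rw [← hset] at this
    exact this
  haveI := Fintype.ofFinite {n : V // j n = k}
  have hval : ∀ x : {n : V // j n = k}, term B x.1 z =
      Function.Periodic.qParam (1 : ℝ) (z : ℂ) ^ k := fun x => by
    rw [term, hq x.1, x.2, Function.Periodic.qParam, ← Complex.exp_nat_mul]
    congr 1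
    push_cast
    ring
  have h := hasSum_fintype (fun x : {n : V // j n = k} =>
    (fun n : V => term B n (z : ℂ)) ((Equiv.sigmaFiberEquiv j) ⟨k, x⟩))
  convert! h using 1
  simp only [Equiv.sigmaFiberEquiv_apply, hval]
  rw [Finset.sum_const, Finset.card_univ, ← Nat.card_eq_fintype_card, cnt, ← hset, nsmul_eq_mul]
  rfl

/-- The theta series as a modular form. -/
def form (hB : Even24 B) : ModularForm 𝒮ℒ 12 where
  toFun z := theta B z
  slash_action_eq' A hA := by
    obtain ⟨A, rfl⟩ := hA
    exact SlashInvariantForm.slash_action_generators_SL2Z (slash_S hB) (slash_T hB) A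
  holo' := by
    rw [UpperHalfPlane.mdifferentiable_iff]
    refine (differentiableOn_theta hB).congr (fun z hz => ?_)
    simp [UpperHalfPlane.ofComplex_apply_of_im_pos hz]
  bdd_at_cusps' hc := by
    rw [Subgroup.IsArithmetic.isCusp_iff_isCusp_SL2Z] at hc
    rw [OnePoint.isBoundedAt_iff_forall_SL2Z hc]
    intro γ _
    rw [SlashInvariantForm.slash_action_generators_SL2Z (slash_S hB) (slash_T hB)]
    exact UpperHalfPlane.isBoundedAtImInfty_of_hasSum_qExpansion one_pos (hasSum_q hB)

lemma coeff_form (hB : Even24 B) (k : ℕ) :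
    (qExpansion 1 (form hB)).coeff k = (cnt B k : ℂ) :=
  (ModularFormClass.qExpansion_coeff_unique one_pos one_mem_strictPeriods_SL
    (f := form hB) (fun z => hasSum_q hB z) k).symm

lemma bernoulli_four' : bernoulli 4 = -1 / 30 := by
  rw [bernoulli_eq_bernoulli'_of_ne_one (by norm_num), bernoulli'_four]

lemma bernoulli'_six : bernoulli' 6 = 1 / 42 := by
  have h5 : bernoulli' 5 = 0 := bernoulli'_eq_zero_of_odd (by decide) (by norm_num)
  rw [bernoulli'_def]
  norm_num [Finset.sum_range_succ, Nat.choose, h5, bernoulli'_four]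

lemma bernoulli_six' : bernoulli 6 = 1 / 42 := by
  rw [bernoulli_eq_bernoulli'_of_ne_one (by norm_num), bernoulli'_six]

lemma e4_coeff (m : ℕ) : (qExpansion 1 E₄).coeff m = if m = 0 then 1 else 240 * (σ 3 m : ℂ) := by
  rw [EisensteinSeries.E_qExpansion_coeff _ ⟨2, rfl⟩, bernoulli_four']
  norm_num

lemma e6_coeff (m : ℕ) :
    (qExpansion 1 E₆).coeff m = if m = 0 then 1 else -504 * (σ 5 m : ℂ) := by
  rw [EisensteinSeries.E_qExpansion_coeff _ ⟨3, rfl⟩, bernoulli_six']
  norm_num

lemma sigma_vals : σ 3 1 = 1 ∧ σ 3 2 = 9 ∧ σ 3 3 = 28 ∧ σ 3 4 = 73 ∧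
    σ 5 1 = 1 ∧ σ 5 2 = 33 ∧ σ 5 3 = 244 ∧ σ 5 4 = 1057 := by
  simp only [ArithmeticFunction.sigma_apply]
  decide

/-- The combination of Eisenstein series. -/
def target : PowerSeries ℂ :=
  (7 / 12 : ℂ) • (qExpansion 1 E₄) ^ 3 + (5 / 12 : ℂ) • (qExpansion 1 E₆) ^ 2

lemma target_coeff :
    target.coeff 0 = 1 ∧ target.coeff 1 = 0 ∧ target.coeff 2 = 196560 ∧
    target.coeff 3 = 16773120 ∧ target.coeff 4 = 398034000 := by
  obtain ⟨a1, a2, a3, a4, b1, b2, b3, b4⟩ := sigma_vals
  refine ⟨?_, ?_, ?_, ?_, ?_⟩ <;>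
  · simp only [target, map_add, PowerSeries.coeff_smul, pow_three, pow_two, smul_eq_mul]
    norm_num [PowerSeries.coeff_mul, Finset.Nat.antidiagonal_succ, e4_coeff, e6_coeff,
      a1, a2, a3, a4, b1, b2, b3, b4]

lemma qExpansion_form_eq (hB : Even24 B) (h2 : ∀ n : V, qZ B n ≠ 2) :
    qExpansion 1 (form hB) = target := by
  set f : ModularForm 𝒮ℒ ((12 : ℕ) : ℤ) :=
    form hB - ((7 / 12 : ℂ) • ModularForm.mcast (by decide) (E₄.pow 3) +
      (5 / 12 : ℂ) • ModularForm.mcast (by decide) (E₆.pow 2)) with hf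
  have hq : qExpansion 1 f = qExpansion 1 (form hB) - target := by
    rw [hf, FunLike.coe_sub, ModularForm.qExpansion_sub one_pos one_mem_strictPeriods_SL,
      FunLike.coe_add, ModularForm.qExpansion_add one_pos one_mem_strictPeriods_SL,
      FunLike.coe_smul, ModularForm.qExpansion_smul one_pos one_mem_strictPeriods_SL,
      FunLike.coe_smul, ModularForm.qExpansion_smul one_pos one_mem_strictPeriods_SL,
      ModularForm.qExpansion_mcast, ModularForm.qExpansion_mcast,
      ModularForm.qExpansion_pow one_pos one_mem_strictPeriods_SL,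
      ModularForm.qExpansion_pow one_pos one_mem_strictPeriods_SL, target]
  have h0 : cnt B 0 = 1 := by
    have : {n : V | qZ B n = 2 * ((0 : ℕ) : ℤ)} = {0} := by
      ext n
      simp only [Set.mem_ofPred_eq, Set.mem_singleton_iff, Nat.cast_zero, mul_zero]
      refine ⟨fun h => ?_, fun h => by simp [h, qZ]⟩
      by_contra hn
      have := hB.good.pos n hn
      omega
    rw [cnt, this, Set.ncard_singleton]
  have h1 : cnt B 1 = 0 := by
    rw [cnt]
    convert Set.ncard_empty V
    ext n
    simpa using h2 n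
  have hz : ∀ i : ℕ, i < 2 → (qExpansion 1 f).coeff i = 0 := by
    intro i hi
    rw [hq, map_sub, coeff_form hB]
    interval_cases i
    · simp [h0, target_coeff.1, -PowerSeries.coeff_zero_eq_constantCoeff]
    · simp [h1, target_coeff.2.1]
  have hf0 : f = 0 := by
    refine ModularForm.sturm_bound_levelOne_nat ?_
    have : ((2 : ℕ) : ℕ∞) ≤ (qExpansion 1 f).order := PowerSeries.nat_le_order _ _ hz
    exact lt_of_lt_of_le (by norm_num) this
  rw [hf0, FunLike.coe_zero, qExpansion_zero] at hq
  exact sub_eq_zero.mp hq.symm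

/-- The three counts. -/
theorem counts (hB : Even24 B) (h2 : ∀ n : V, qZ B n ≠ 2) :
    cnt B 2 = 196560 ∧ cnt B 3 = 16773120 ∧ cnt B 4 = 398034000 := by
  have h : ∀ k : ℕ, (cnt B k : ℂ) = target.coeff k := fun k => by
    rw [← coeff_form hB k, qExpansion_form_eq hB h2]
  obtain ⟨-, -, t2, t3, t4⟩ := target_coeff
  refine ⟨?_, ?_, ?_⟩
  · exact_mod_cast (h 2).trans t2
  · exact_mod_cast (h 3).trans t3
  · exact_mod_cast (h 4).trans t4

end

end Cfsg.Agent.Lib.Theta24.Counts
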