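import Mathlib

set_option autoImplicit false
set_option linter.unusedSectionVars false

open Matrix MeasureTheory Real Filter Topology
open scoped Matrix

/-!
Poisson summation for the Gaussian of a positive unimodular integral quadratic form.
-/

namespace Cfsg.Agent.Lib.Theta24.Poisson

noncomputable section

variable {ι : Type*} [Fintype ι]

/-- The integral quadratic form of a matrix. -/
def qZ (B : Matrix ι ι ℤ) (n : ι → ℤ) : ℤ := n ⬝ᵥ (B *ᵥ n)

/-- The same form over the reals. -/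
def qR (B : Matrix ι ι ℤ) (x : ι → ℝ) : ℝ := x ⬝ᵥ ((B.map (fun a : ℤ => (a : ℝ))) *ᵥ x)

lemma qR_cast (B : Matrix ι ι ℤ) (n : ι → ℤ) :
    qR B (fun i => (n i : ℝ)) = (qZ B n : ℝ) := by
  simp [qR, qZ, dotProduct, Matrix.mulVec, Matrix.map_apply]

lemma continuous_qR (B : Matrix ι ι ℤ) : Continuous (qR B) := by
  unfold qR dotProduct Matrix.mulVec dotProduct
  fun_prop

lemma qR_smul (B : Matrix ι ι ℤ) (c : ℝ) (x : ι → ℝ) : qR B (c • x) = c ^ 2 * qR B x := by
  simp only [qR, Matrix.mulVec_smul, smul_dotProduct, dotProduct_smul, smul_eq_mul]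
  ring

lemma qR_nonneg (B : Matrix ι ι ℤ) (h : ∀ n : ι → ℤ, 0 ≤ qZ B n) (x : ι → ℝ) : 0 ≤ qR B x := by
  set y : ℕ → ι → ℝ := fun N i => (⌊x i * (N + 1)⌋ : ℝ) / (N + 1) with hy
  have hlim : Tendsto y atTop (𝓝 x) := by
    rw [tendsto_pi_nhds]
    intro i
    have h1 : Tendsto (fun N : ℕ => (1 : ℝ) / (N + 1)) atTop (𝓝 0) :=
      tendsto_one_div_add_atTop_nhds_zero_nat
    refine tendsto_of_tendsto_of_tendsto_of_le_of_le
      (g := fun N : ℕ => x i - 1 / (N + 1)) (h := fun _ => x i) ?_ tendsto_const_nhds ?_ ?_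
    · simpa using tendsto_const_nhds.sub h1
    · intro N
      have hN : (0 : ℝ) < N + 1 := by positivity
      have h3 := Int.sub_one_lt_floor (x i * (N + 1))
      simp only [hy]
      rw [le_div_iff₀ hN, sub_mul, div_mul_cancel₀ _ hN.ne']
      exact h3.le
    · intro N
      have hN : (0 : ℝ) < N + 1 := by positivity
      simp only [hy]
      rw [div_le_iff₀ hN]
      exact Int.floor_le _
  refine ge_of_tendsto' (((continuous_qR B).tendsto x).comp hlim) (fun N => ?_)
  have h4 : y N = ((N : ℝ) + 1)⁻¹ • (fun i => ((⌊x i * (N + 1)⌋ : ℤ) : ℝ)) := by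
    funext i; simp [hy, div_eq_inv_mul]
  rw [Function.comp_apply, h4, qR_smul, qR_cast]
  have := h (fun i => ⌊x i * (N + 1)⌋)
  positivity

/-- The hypotheses on the form. -/
structure Good (B : Matrix ι ι ℤ) [DecidableEq ι] : Prop where
  symm : B.IsSymm
  pos : ∀ n : ι → ℤ, n ≠ 0 → 0 < qZ B n
  det : B.det = 1

variable [DecidableEq ι] {B : Matrix ι ι ℤ}

lemma Good.nonneg (hB : Good B) (n : ι → ℤ) : 0 ≤ qZ B n := by
  rcases eq_or_ne n 0 with rfl | hn
  · simp [qZ]
  · exact (hB.pos n hn).le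

open scoped MatrixOrder in
/-- A square root of the form. -/
lemma exists_root (hB : Good B) :
    ∃ M N : Matrix ι ι ℝ, B.map (fun a : ℤ => (a : ℝ)) = Mᵀ * M ∧ M * N = 1 ∧ N * M = 1 ∧
      |N.det| = 1 := by
  have hR : (B.map (fun a : ℤ => (a : ℝ))).PosSemidef := by
    refine .of_dotProduct_mulVec_nonneg ?_ (fun x => ?_)
    · unfold Matrix.IsHermitian
      rw [Matrix.conjTranspose_eq_transpose_of_trivial, ← Matrix.transpose_map, hB.symm.eq]
    · simpa [qR] using qR_nonneg B hB.nonneg x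
  obtain ⟨M, hM⟩ := CStarAlgebra.nonneg_iff_eq_star_mul_self.mp hR.nonneg
  rw [Matrix.star_eq_conjTranspose, Matrix.conjTranspose_eq_transpose_of_trivial] at hM
  have hd : M.det * M.det = 1 := by
    have h1 : (B.map (fun a : ℤ => (a : ℝ))).det = 1 := by
      have := (Int.castRingHom ℝ).map_det B
      simp [hB.det] at this
      exact this.symm
    rw [hM, Matrix.det_mul, Matrix.det_transpose] at h1
    exact h1
  have hu : IsUnit M.det := IsUnit.of_mul_eq_one _ hd
  refine ⟨M, M⁻¹, hM, Matrix.mul_nonsing_inv _ hu, Matrix.nonsing_inv_mul _ hu, ?_⟩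
  rw [Matrix.det_nonsing_inv, Ring.inverse_eq_inv', abs_inv]
  rcases mul_self_eq_one_iff.mp hd with h | h <;> simp [h]

lemma qR_root {M : Matrix ι ι ℝ} (hM : B.map (fun a : ℤ => (a : ℝ)) = Mᵀ * M) (x : ι → ℝ) :
    qR B x = (M *ᵥ x) ⬝ᵥ (M *ᵥ x) := by
  rw [qR, hM, ← Matrix.mulVec_mulVec, Matrix.dotProduct_mulVec, Matrix.vecMul_transpose]

lemma coercive (hB : Good B) : ∃ c : ℝ, 0 < c ∧ ∀ x : ι → ℝ, c * ∑ i, x i ^ 2 ≤ qR B x := by
  obtain ⟨M, N, hM, hMN, hNM, -⟩ := exists_root hB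
  refine ⟨1 / ((∑ i, ∑ j, N i j ^ 2) + 1), by positivity, fun x => ?_⟩
  have hx : x = N *ᵥ (M *ᵥ x) := by rw [Matrix.mulVec_mulVec, hNM, Matrix.one_mulVec]
  rw [qR_root hM]
  set y := M *ᵥ x with hy
  have h1 : y ⬝ᵥ y = ∑ j, y j ^ 2 := by simp [dotProduct, pow_two]
  have h2 : ∑ i, x i ^ 2 ≤ (∑ i, ∑ j, N i j ^ 2) * ∑ j, y j ^ 2 := by
    rw [Finset.sum_mul]
    refine Finset.sum_le_sum (fun i _ => ?_)
    rw [hx]
    exact Finset.sum_mul_sq_le_sq_mul_sq Finset.univ (N i) y
  have h3 : (0 : ℝ) ≤ ∑ j, y j ^ 2 := by positivity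
  rw [h1, one_div, inv_mul_le_iff₀ (by positivity)]
  linarith

/-! ## Summability -/

lemma summable_gauss_int {a : ℝ} (ha : 0 < a) :
    Summable (fun n : ℤ => rexp (-(a * (n : ℝ) ^ 2))) := by
  have h : Summable (fun n : ℕ => rexp (-(a * (n : ℝ) ^ 2))) := by
    refine (Real.summable_exp_nat_mul_of_ge (c := -a) (by linarith)
      (f := fun n : ℕ => (n : ℝ) ^ 2) (fun n => ?_)).congr (fun n => by simp)
    rcases Nat.eq_zero_or_pos n with rfl | hn
    · simp
    · have : (1 : ℝ) ≤ n := by exact_mod_cast hn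
      nlinarith
  refine summable_int_iff_summable_nat_and_neg.mpr ⟨by simpa using h, by simpa using h⟩

lemma summable_pi {α : Type*} (f : α → ℝ) (hf : ∀ a, 0 ≤ f a) (hs : Summable f) :
    Summable (fun n : ι → α => ∏ i, f (n i)) := by
  classical
  refine summable_of_sum_le (c := (∑' a, f a) ^ Fintype.card ι)
    (fun n => Finset.prod_nonneg (fun i _ => hf _)) (fun S => ?_)
  let T : ι → Finset α := fun i => S.image (fun n => n i)
  calc ∑ n ∈ S, ∏ i, f (n i) ≤ ∑ n ∈ Fintype.piFinset T, ∏ i, f (n i) := by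
        refine Finset.sum_le_sum_of_subset_of_nonneg (fun n hn => ?_)
          (fun n _ _ => Finset.prod_nonneg (fun i _ => hf _))
        exact Fintype.mem_piFinset.mpr (fun i => Finset.mem_image_of_mem _ hn)
    _ = ∏ i, ∑ a ∈ T i, f a := (Finset.prod_univ_sum T (fun _ a => f a)).symm
    _ ≤ ∏ _i : ι, ∑' a, f a := by
        refine Finset.prod_le_prod (fun i _ => Finset.sum_nonneg (fun a _ => hf a)) (fun i _ => ?_)
        exact hs.sum_le_tsum _ (fun a _ => hf a)
    _ = _ := by simp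

/-- The Gaussian majorant. -/
def bnd (a : ℝ) (n : ι → ℤ) : ℝ := ∏ i, rexp (-(a * (n i : ℝ) ^ 2))

lemma summable_bnd {a : ℝ} (ha : 0 < a) : Summable (bnd (ι := ι) a) :=
  summable_pi (fun z : ℤ => rexp (-(a * (z : ℝ) ^ 2))) (fun _ => (exp_pos _).le) (summable_gauss_int ha)

lemma exp_q_le (hB : Good B) : ∃ c : ℝ, 0 < c ∧ ∀ s : ℝ, 0 ≤ s → ∀ n : ι → ℤ,
    rexp (-(s * (qZ B n : ℝ))) ≤ bnd (s * c) n := by
  obtain ⟨c, hc, h⟩ := coercive hB
  refine ⟨c, hc, fun s hs n => ?_⟩
  rw [bnd, ← exp_sum, exp_le_exp, Finset.sum_neg_distrib, ← Finset.mul_sum, neg_le_neg_iff,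
    ← qR_cast, mul_assoc]
  exact mul_le_mul_of_nonneg_left (h _) hs

/-! ## The periodisation -/

/-- The complex Gaussian. -/
def g (B : Matrix ι ι ℤ) (t : ℝ) (x : ι → ℝ) : ℂ := ((rexp (-(π * t * qR B x)) : ℝ) : ℂ)

/-- Translation by an integer vector. -/
def sh (x : ι → ℝ) (n : ι → ℤ) : ι → ℝ := fun i => x i + (n i : ℝ)

/-- The periodised Gaussian. -/
def F (B : Matrix ι ι ℤ) (t : ℝ) (x : ι → ℝ) : ℂ := ∑' n : ι → ℤ, g B t (sh x n)

lemma continuous_g (B : Matrix ι ι ℤ) (t : ℝ) : Continuous (g B t) := by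
  have := continuous_qR B
  unfold g
  fun_prop

lemma continuous_sh (n : ι → ℤ) : Continuous (fun x : ι → ℝ => sh x n) := by
  unfold sh; fun_prop

lemma norm_g (B : Matrix ι ι ℤ) (t : ℝ) (x : ι → ℝ) : ‖g B t x‖ = rexp (-(π * t * qR B x)) := by
  rw [g, Complex.norm_real, norm_of_nonneg (exp_pos _).le]

lemma norm_g_sh_le (hB : Good B) {t : ℝ} (ht : 0 < t) (R : ℝ) :
    ∃ C a : ℝ, 0 < a ∧ ∀ x : ι → ℝ, (∀ i, |x i| ≤ R) → ∀ n,
      ‖g B t (sh x n)‖ ≤ C * bnd a n := by
  obtain ⟨c, hc, h⟩ := coercive hB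
  refine ⟨rexp (π * t * c * (Fintype.card ι * R ^ 2)), π * t * c / 2, by positivity,
    fun x hx n => ?_⟩
  rw [norm_g, bnd, ← exp_sum, ← exp_add, exp_le_exp, Finset.sum_neg_distrib, ← Finset.mul_sum]
  have h2 : ∑ i, ((n i : ℝ) ^ 2 / 2 - R ^ 2) ≤ ∑ i, sh x n i ^ 2 := by
    refine Finset.sum_le_sum (fun i _ => ?_)
    have : x i ^ 2 ≤ R ^ 2 := sq_le_sq' (abs_le.mp (hx i)).1 (abs_le.mp (hx i)).2
    simp only [sh]
    nlinarith [sq_nonneg (2 * x i + (n i : ℝ))]
  rw [Finset.sum_sub_distrib, ← Finset.sum_div, Finset.sum_const, Finset.card_univ,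
    nsmul_eq_mul] at h2
  have h3 := h (sh x n)
  have h4 : 0 ≤ π * t := by positivity
  have h5 : c * ((∑ i, (n i : ℝ) ^ 2) / 2 - Fintype.card ι * R ^ 2) ≤ qR B (sh x n) :=
    le_trans (mul_le_mul_of_nonneg_left h2 hc.le) h3
  nlinarith [mul_le_mul_of_nonneg_left h5 h4]

lemma continuous_F (hB : Good B) {t : ℝ} (ht : 0 < t) : Continuous (F B t) := by
  rw [continuous_iff_continuousAt]
  intro x₀
  obtain ⟨C, a, ha, h⟩ := norm_g_sh_le hB ht (‖x₀‖ + 1)
  have h1 : ContinuousOn (F B t) (Metric.ball x₀ 1) := by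
    refine continuousOn_tsum (fun n => ((continuous_g B t).comp (continuous_sh n)).continuousOn)
      ((summable_bnd ha).mul_left C) (fun n x hx => h x (fun i => ?_) n)
    have h2 := norm_le_pi_norm x i
    have h3 : ‖x‖ ≤ ‖x₀‖ + ‖x - x₀‖ := by
      simpa using norm_add_le x₀ (x - x₀)
    rw [mem_ball_iff_norm] at hx
    rw [← Real.norm_eq_abs]
    linarith
  exact h1.continuousAt (Metric.ball_mem_nhds _ one_pos)

lemma sh_sh (x : ι → ℝ) (m n : ι → ℤ) : sh (sh x m) n = sh x (m + n) := by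
  funext i; simp [sh, add_assoc]

lemma F_periodic (B : Matrix ι ι ℤ) (t : ℝ) (x : ι → ℝ) (m : ι → ℤ) :
    F B t (sh x m) = F B t x := by
  unfold F
  simp only [sh_sh]
  exact (Equiv.addLeft m).tsum_eq (fun n => g B t (sh x n))

/-- The projection to the torus. -/
def proj : (ι → ℝ) → UnitAddTorus ι := Pi.map (fun _ (x : ℝ) => (x : UnitAddCircle))

lemma isOpenQuotientMap_proj : IsOpenQuotientMap (proj (ι := ι)) :=
  IsOpenQuotientMap.piMap (fun _ => QuotientAddGroup.isOpenQuotientMap_mk)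

lemma exists_sh_of_proj_eq {x y : ι → ℝ} (h : proj x = proj y) : ∃ m : ι → ℤ, sh x m = y := by
  have : ∀ i, ∃ k : ℤ, x i + (k : ℝ) = y i := fun i => by
    have h1 : (x i : UnitAddCircle) = (y i : UnitAddCircle) := congrFun h i
    rw [QuotientAddGroup.eq, AddSubgroup.mem_zmultiples_iff] at h1
    obtain ⟨k, hk⟩ := h1
    refine ⟨k, ?_⟩
    rw [zsmul_one] at hk
    linarith
  choose m hm using this
  exact ⟨m, funext hm⟩

lemma exists_torus (hB : Good B) {t : ℝ} (ht : 0 < t) :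
    ∃ G : C(UnitAddTorus ι, ℂ), ∀ x, G (proj x) = F B t x := by
  have hs := (isOpenQuotientMap_proj (ι := ι)).surjective
  have key : (fun q => F B t (Function.surjInv hs q)) ∘ proj = F B t := by
    funext x
    obtain ⟨m, hm⟩ := exists_sh_of_proj_eq (Function.surjInv_eq hs (proj x))
    exact (F_periodic B t _ m).symm.trans (congrArg _ hm)
  refine ⟨⟨fun q => F B t (Function.surjInv hs q), ?_⟩, fun x => congrFun key x⟩
  rw [← (isOpenQuotientMap_proj (ι := ι)).continuous_comp_iff, key]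
  exact continuous_F hB ht

/-! ## Tiling -/

/-- The unit box at an integer vector. -/
def box (n : ι → ℤ) : Set (ι → ℝ) := {x | ∀ i, x i ∈ Set.Ioc (n i : ℝ) ((n i : ℝ) + 1)}

lemma measurableSet_box (n : ι → ℤ) : MeasurableSet (box n) := by
  have : box n = Set.univ.pi (fun i => Set.Ioc (n i : ℝ) ((n i : ℝ) + 1)) := by
    ext x; simp [box]
  rw [this]
  exact MeasurableSet.univ_pi (fun i => measurableSet_Ioc)

lemma iUnion_box : ⋃ n : ι → ℤ, box n = Set.univ := by
  ext x
  simp only [Set.mem_iUnion, Set.mem_univ, iff_true]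
  refine ⟨fun i => ⌈x i⌉ - 1, fun i => ?_⟩
  push_cast
  constructor
  · linarith [Int.ceil_lt_add_one (x i)]
  · linarith [Int.le_ceil (x i)]

lemma disjoint_box : Pairwise (Function.onFun Disjoint (box (ι := ι))) := by
  intro m n hmn
  rw [Function.onFun, Set.disjoint_left]
  intro x hm hn
  apply hmn
  funext i
  obtain ⟨h1, h2⟩ := hm i
  obtain ⟨h3, h4⟩ := hn i
  have h5 : (m i : ℝ) < n i + 1 := by linarith
  have h6 : (n i : ℝ) < m i + 1 := by linarith
  norm_cast at h5 h6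
  omega

lemma integral_box (h : (ι → ℝ) → ℂ) (n : ι → ℤ) :
    ∫ x in box n, h x = ∫ x in box (0 : ι → ℤ), h (sh x n) := by
  have hpre : (fun x : ι → ℝ => sh x n) ⁻¹' box n = box (0 : ι → ℤ) := by
    ext x
    simp only [box, sh, Set.mem_preimage, Set.mem_ofPred_eq, Set.mem_Ioc, Pi.zero_apply, Int.cast_zero]
    refine forall_congr' (fun i => ?_)
    constructor <;> intro h <;> constructor <;> linarith [h.1, h.2]
  have he : MeasurableEmbedding (fun x : ι → ℝ => sh x n) :=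
    (MeasurableEquiv.addRight (fun i => (n i : ℝ))).measurableEmbedding
  have hm : MeasurePreserving (fun x : ι → ℝ => sh x n) volume volume :=
    measurePreserving_add_right volume (fun i => (n i : ℝ))
  rw [← hpre]
  exact (hm.setIntegral_preimage_emb he h (box n)).symm

/-- The character. -/
def chr (m : ι → ℤ) (x : ι → ℝ) : ℂ :=
  Complex.exp (∑ i, (-(2 * π * Complex.I * (m i : ℂ))) * (x i : ℂ))

lemma mFourier_proj (m : ι → ℤ) (x : ι → ℝ) :
    UnitAddTorus.mFourier (-m) (proj x) = chr m x := by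
  simp only [UnitAddTorus.mFourier, ContinuousMap.coe_mk, chr, Complex.exp_sum]
  refine Finset.prod_congr rfl (fun i _ => ?_)
  show fourier ((-m) i) ((x i : ℝ) : UnitAddCircle) = _
  rw [fourier_coe_apply]
  congr 1
  simp

lemma chr_sh (m : ι → ℤ) (x : ι → ℝ) (n : ι → ℤ) : chr m (sh x n) = chr m x := by
  rw [← mFourier_proj, ← mFourier_proj]
  congr 1
  funext i
  show ((x i + (n i : ℝ) : ℝ) : UnitAddCircle) = (x i : UnitAddCircle)
  simp

lemma norm_chr (m : ι → ℤ) (x : ι → ℝ) : ‖chr m x‖ = 1 := by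
  simp [chr, Complex.norm_exp, Complex.re_sum]

lemma continuous_chr (m : ι → ℤ) : Continuous (chr m) := by
  unfold chr; fun_prop

lemma integrable_integrand (hB : Good B) {t : ℝ} (ht : 0 < t) (m : ι → ℤ) :
    Integrable (fun y => chr m y * g B t y) := by
  obtain ⟨c, hc, h⟩ := coercive hB
  have h1 : Integrable (fun y : ι → ℝ => ∏ i, rexp (-(π * t * c) * y i ^ 2)) :=
    Integrable.fintype_prod (f := fun _ (s : ℝ) => rexp (-(π * t * c) * s ^ 2))
      (fun _ => integrable_exp_neg_mul_sq (by positivity))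
  refine h1.mono' ((continuous_chr m).mul (continuous_g B t)).aestronglyMeasurable
    (Eventually.of_forall (fun y => ?_))
  rw [norm_mul, norm_chr, one_mul, norm_g, ← exp_sum, exp_le_exp, ← Finset.mul_sum]
  nlinarith [mul_le_mul_of_nonneg_left (h y) (show (0 : ℝ) ≤ π * t by positivity)]

lemma coeff_eq (hB : Good B) {t : ℝ} (ht : 0 < t) (G : C(UnitAddTorus ι, ℂ))
    (hG : ∀ x, G (proj x) = F B t x) (m : ι → ℤ) :
    UnitAddTorus.mFourierCoeff G m = ∫ y : ι → ℝ, chr m y * g B t y := by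
  rw [UnitAddTorus.mFourierCoeff_eq_integral G m (fun i => (((0 : ι → ℤ) i : ℤ) : ℝ))]
  have h1 : ∀ x : ι → ℝ, UnitAddTorus.mFourier (-m) (fun i => (x i : UnitAddCircle)) •
      G (fun i => (x i : UnitAddCircle)) = ∑' n, chr m (sh x n) * g B t (sh x n) := fun x => by
    have e : (fun i => (x i : UnitAddCircle)) = proj x := rfl
    rw [e, mFourier_proj, hG, smul_eq_mul, F, ← tsum_mul_left]
    simp only [chr_sh]
  simp only [h1]
  obtain ⟨C, a, ha, hb⟩ := norm_g_sh_le hB ht 1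
  have hbox : ∀ n : ι → ℤ, ∀ x ∈ box (0 : ι → ℤ),
      ‖chr m (sh x n) * g B t (sh x n)‖ ≤ C * bnd a n := fun n x hx => by
    rw [norm_mul, norm_chr, one_mul]
    refine hb x (fun i => abs_le.mpr ?_) n
    have := hx i
    simp at this
    constructor <;> linarith [this.1, this.2]
  haveI : IsFiniteMeasure (volume.restrict (box (0 : ι → ℤ))) := by
    refine isFiniteMeasure_restrict.mpr (ne_of_lt ?_)
    have : box (0 : ι → ℤ) ⊆ Set.Icc (fun _ => (0 : ℝ)) (fun _ => 1) := by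
      intro x hx
      exact ⟨fun i => by simpa using (hx i).1.le, fun i => by simpa using (hx i).2⟩
    exact (measure_mono this).trans_lt isCompact_Icc.measure_lt_top
  have hint : ∀ n : ι → ℤ, Integrable (fun x => chr m (sh x n) * g B t (sh x n))
      (volume.restrict (box (0 : ι → ℤ))) := fun n =>
    Integrable.mono' (integrable_const (C * bnd a n))
      (((continuous_chr m).mul (continuous_g B t)).comp (continuous_sh n)).aestronglyMeasurable
      (ae_restrict_of_forall_mem (measurableSet_box _) (hbox n))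
  show ∫ x in box (0 : ι → ℤ), _ = _
  rw [← integral_tsum_of_summable_integral_norm hint]
  · rw [← setIntegral_univ, ← iUnion_box,
      integral_iUnion measurableSet_box disjoint_box (integrable_integrand hB ht m).integrableOn]
    exact tsum_congr (fun n => (integral_box (fun y => chr m y * g B t y) n).symm)
  · refine Summable.of_nonneg_of_le (fun n => integral_nonneg (fun x => norm_nonneg _))
      (fun n => ?_) (((summable_bnd ha).mul_left C).mul_left
        ((volume.restrict (box (0 : ι → ℤ))).real Set.univ))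
    calc ∫ x in box (0 : ι → ℤ), ‖chr m (sh x n) * g B t (sh x n)‖
        ≤ ∫ _x in box (0 : ι → ℤ), C * bnd a n :=
          integral_mono_ae (hint n).norm (integrable_const _)
            (ae_restrict_of_forall_mem (measurableSet_box _) (hbox n))
      _ = _ := by rw [integral_const, smul_eq_mul]

/-- The Fourier transform of the Gaussian at `B k`. -/
lemma integral_integrand (hB : Good B) {d : ℕ} (hd : Fintype.card ι = 2 * d) {t : ℝ} (ht : 0 < t)
    (k : ι → ℤ) :
    ∫ y : ι → ℝ, chr (B *ᵥ k) y * g B t y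
      = ((t : ℂ) ^ d)⁻¹ * ((rexp (-(π / t * (qZ B k : ℝ))) : ℝ) : ℂ) := by
  obtain ⟨M, N, hM, hMN, hNM, hdN⟩ := exists_root hB
  have hdN0 : N.det ≠ 0 := by intro h; simp [h] at hdN
  have hcont : Continuous (Matrix.toLin' N) := LinearMap.continuous_of_finiteDimensional _
  have hmp : MeasurePreserving (Matrix.toLin' N) (volume : Measure (ι → ℝ)) volume := by
    refine ⟨hcont.measurable, ?_⟩
    rw [Real.map_matrix_volume_pi_eq_smul_volume_pi hdN0, abs_inv, hdN]
    simp
  have hme : MeasurableEmbedding (Matrix.toLin' N) := by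
    refine hcont.measurableEmbedding ?_
    intro x y hxy
    have := congrArg (fun v => M *ᵥ v) hxy
    simpa [Matrix.mulVec_mulVec, hMN] using this
  rw [← hmp.integral_comp hme]
  set v : ι → ℝ := M *ᵥ (fun i => (k i : ℝ)) with hv
  have hm : ∀ u : ι → ℝ, ∑ i, (((B *ᵥ k) i : ℤ) : ℝ) * (N *ᵥ u) i = ∑ i, v i * u i := by
    intro u
    show (fun i => (((B *ᵥ k) i : ℤ) : ℝ)) ⬝ᵥ (N *ᵥ u) = v ⬝ᵥ u
    have e : (fun i => (((B *ᵥ k) i : ℤ) : ℝ)) = (Mᵀ * M) *ᵥ (fun i => (k i : ℝ)) := by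
      rw [← hM]; funext i; simp [Matrix.mulVec, dotProduct]
    rw [e, Matrix.dotProduct_mulVec, ← Matrix.mulVec_mulVec, ← hv, ← Matrix.vecMul_transpose,
      Matrix.transpose_transpose, Matrix.vecMul_vecMul, hMN, Matrix.vecMul_one]
  have key : ∀ u : ι → ℝ, chr (B *ᵥ k) (Matrix.toLin' N u) * g B t (Matrix.toLin' N u)
      = Complex.exp (-((π * t : ℝ) : ℂ) * ∑ i, (u i : ℂ) ^ 2 +
          ∑ i, (-(2 * π * Complex.I * (v i : ℂ))) * u i) := by
    intro u
    rw [Matrix.toLin'_apply, chr, g, Complex.ofReal_exp, ← Complex.exp_add]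
    congr 1
    rw [qR_root hM, Matrix.mulVec_mulVec, hMN, Matrix.one_mulVec, add_comm]
    congr 1
    · simp [dotProduct, pow_two]
    · have := congrArg (fun r : ℝ => -(2 * π * Complex.I) * (r : ℂ)) (hm u)
      push_cast at this
      simp only [Finset.mul_sum] at this
      simp only [neg_mul, mul_assoc] at this ⊢
      exact this
  simp only [key]
  rw [GaussianFourier.integral_cexp_neg_mul_sum_add (by simp; positivity)]
  have hq : (qZ B k : ℝ) = ∑ i, v i ^ 2 := by
    rw [← qR_cast, qR_root hM, ← hv]; simp [dotProduct, pow_two]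
  rw [hd]
  congr 1
  · rw [show (((2 * d : ℕ) : ℂ) / 2) = ((d : ℕ) : ℂ) by push_cast; ring, Complex.cpow_natCast,
      ← inv_pow]
    congr 1
    have : (π : ℂ) ≠ 0 := by exact_mod_cast Real.pi_ne_zero
    have : (t : ℂ) ≠ 0 := by exact_mod_cast ht.ne'
    push_cast
    field_simp
  · rw [Complex.ofReal_exp, hq]
    congr 1
    have hp : (π : ℂ) ≠ 0 := by exact_mod_cast Real.pi_ne_zero
    have ht' : (t : ℂ) ≠ 0 := by exact_mod_cast ht.ne'
    push_cast
    simp only [Finset.mul_sum, ← Finset.sum_neg_distrib, Finset.sum_div]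
    refine Finset.sum_congr rfl (fun i _ => ?_)
    ring_nf
    rw [Complex.I_sq]
    field_simp

/-- Multiplication by the form as a permutation of the integer lattice. -/
def mulEquiv (hB : Good B) : (ι → ℤ) ≃ (ι → ℤ) where
  toFun k := B *ᵥ k
  invFun k := B⁻¹ *ᵥ k
  left_inv k := by
    show B⁻¹ *ᵥ (B *ᵥ k) = k
    rw [Matrix.mulVec_mulVec, Matrix.nonsing_inv_mul _ (by simp [hB.det]), Matrix.one_mulVec]
  right_inv k := by
    show B *ᵥ (B⁻¹ *ᵥ k) = k
    rw [Matrix.mulVec_mulVec, Matrix.mul_nonsing_inv _ (by simp [hB.det]), Matrix.one_mulVec]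

lemma summable_exp_q (hB : Good B) {s : ℝ} (hs : 0 < s) :
    Summable (fun n : ι → ℤ => rexp (-(s * (qZ B n : ℝ)))) := by
  obtain ⟨c, hc, h⟩ := exp_q_le hB
  exact Summable.of_nonneg_of_le (fun n => (exp_pos _).le) (h s hs.le)
    (summable_bnd (mul_pos hs hc))

/-- Poisson summation. -/
theorem poisson (hB : Good B) {d : ℕ} (hd : Fintype.card ι = 2 * d) {t : ℝ} (ht : 0 < t) :
    ∑' n : ι → ℤ, rexp (-(π * t * (qZ B n : ℝ)))
      = (t ^ d)⁻¹ * ∑' n : ι → ℤ, rexp (-(π / t * (qZ B n : ℝ))) := by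
  obtain ⟨G, hG⟩ := exists_torus hB ht
  have hc : ∀ k, UnitAddTorus.mFourierCoeff G (mulEquiv hB k)
      = (((t ^ d)⁻¹ * rexp (-(π / t * (qZ B k : ℝ))) : ℝ) : ℂ) := fun k => by
    show UnitAddTorus.mFourierCoeff G (B *ᵥ k) = _
    rw [coeff_eq hB ht G hG, integral_integrand hB hd ht]
    push_cast; rfl
  have hs : Summable (UnitAddTorus.mFourierCoeff G) := by
    rw [← (mulEquiv hB).summable_iff]
    refine (Complex.summable_ofReal.mpr ((summable_exp_q hB
      (show 0 < π / t by positivity)).mul_left ((t ^ d)⁻¹))).congr (fun k => ?_)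
    exact (hc k).symm
  have h0 := UnitAddTorus.hasSum_mFourier_series_apply_of_summable hs (proj (0 : ι → ℝ))
  rw [← (mulEquiv hB).hasSum_iff, hG] at h0
  have h1 := h0.tsum_eq
  have h2 : ∀ m : ι → ℤ, UnitAddTorus.mFourier m (proj (0 : ι → ℝ)) = 1 := fun m => by
    have := mFourier_proj (-m) (0 : ι → ℝ)
    simp [neg_neg, chr] at this
    exact this
  simp only [Function.comp_def, h2, hc, smul_eq_mul, mul_one] at h1
  rw [← Complex.ofReal_tsum, tsum_mul_left] at h1
  have h3 : F B t 0 = ((∑' n : ι → ℤ, rexp (-(π * t * (qZ B n : ℝ))) : ℝ) : ℂ) := by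
    rw [F, Complex.ofReal_tsum]
    refine tsum_congr (fun n => ?_)
    have : sh (0 : ι → ℝ) n = fun i => (n i : ℝ) := by funext i; simp [sh]
    rw [g, this, qR_cast]
  rw [h3] at h1
  exact_mod_cast h1.symm

end

end Cfsg.Agent.Lib.Theta24.Poisson
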